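import Groth.Agent.L20.SchDesc.Bootstrap
import Groth.Agent.L23.QuotRestrict

/-!
# Representability of a map of sheaves from descent along an fppf chart
-/

set_option autoImplicit false
set_option linter.style.haveILetI false
set_option backward.isDefEq.respectTransparency.types false

universe u

open CategoryTheory CategoryTheory.Limits AlgebraicGeometry AlgSp

noncomputable section

namespace Groth.L20.SchDesc

variable {S : Scheme.{u}} {G : Sp S} {V : Over S} {γ : (yon S).obj V ⟶ G}
variable {F : Sp S} {f : G ⟶ F} {U' T : Over S} (g' : V ⟶ U') (b : U' ⟶ T)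
  {a : (yon S).obj T ⟶ F} (sq' : IsPullback γ ((yon S).map g') f ((yon S).map b ≫ a))

include sq' in
theorem exists_isPullback_of_effective_fppf [Surjective b.left] [Flat b.left]
    [LocallyOfFinitePresentation b.left]
    (P : MorphismProperty Scheme.{u}) [P.IsStableUnderBaseChange]
    [P.IsLocalAtTarget Scheme.fppfPrecoverage] (hP : P g'.left)
    (hE : Effective (chartPre g' b sq')) :
    ∃ (W : Over S) (sW : W ⟶ T) (δ : (yon S).obj W ⟶ G),
      IsPullback δ ((yon S).map sW) f a ∧ P sW.left := by
  obtain ⟨d⟩ := hE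
  let W : Over S := Over.mk (d.a ≫ T.hom)
  let sW : W ⟶ T := Over.homMk d.a rfl
  let π : V ⟶ W := Over.homMk d.q (by
    show d.q ≫ d.a ≫ T.hom = V.hom
    rw [← reassoc_of% d.isPullback.w, Over.w b, Over.w g'])
  have hπs : π ≫ sW = g' ≫ b := Over.OverMorphism.ext d.isPullback.w.symm
  have : Surjective π.left := MorphismProperty.of_isPullback d.isPullback ‹Surjective b.left›
  have : Flat π.left := MorphismProperty.of_isPullback d.isPullback ‹Flat b.left›
  have : LocallyOfFinitePresentation π.left :=
    MorphismProperty.of_isPullback d.isPullback ‹LocallyOfFinitePresentation b.left›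
  have := Groth.L23.QR.epi_yon_map π
  have hq : ∀ {Z : Over S} (k₁ k₂ : Z ⟶ V), (yon S).map k₁ ≫ γ = (yon S).map k₂ ≫ γ →
      k₁ ≫ g' ≫ b = k₂ ≫ g' ≫ b → k₁ ≫ π = k₂ ≫ π := by
    intro Z k₁ k₂ h1 h2
    have c : k₁.left ≫ g'.left ≫ b.left = (k₂.left ≫ g'.left) ≫ b.left :=
      (congrArg CommaMorphism.left h2).trans (Category.assoc _ _ _).symm
    have hw := (exists_sameImg g' b sq' k₁.left (k₂.left ≫ g'.left) c).choose_spec
    have e : (chartPre g' b sq').act k₁.left (k₂.left ≫ g'.left) c = k₂.left :=
      sameImg_unique g' b sq' (hw.1.symm.trans ((sameImg_iff γ k₁ k₂).2 h1)) hw.2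
    exact Over.OverMorphism.ext
      ((d.comm k₁.left _ c).symm.trans (congrArg (· ≫ d.q) e))
  have hγ : ∀ {Z : Over S} (k₁ k₂ : Z ⟶ V), k₁ ≫ π = k₂ ≫ π →
      (yon S).map k₁ ≫ γ = (yon S).map k₂ ≫ γ := by
    intro Z k₁ k₂ h
    have e : k₁.left ≫ d.q = k₂.left ≫ d.q := congrArg CommaMorphism.left h
    have hw := (exists_sameImg g' b sq' k₁.left (k₂.left ≫ g'.left) (d.cond _ _ e)).choose_spec.1
    rw [show (exists_sameImg g' b sq' k₁.left (k₂.left ≫ g'.left) (d.cond _ _ e)).choose = k₂.left
      from d.act_eq k₁.left k₂.left e (d.cond _ _ e)] at hw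
    exact (sameImg_iff γ k₁ k₂).1 hw
  have sqπ := (IsPullback.of_hasPullback π π).map (yon S)
  obtain ⟨hc⟩ := Groth.L23.nonempty_isColimit_cofork ((yon S).map π) sqπ
  let δ : (yon S).obj W ⟶ G :=
    hc.desc (Cofork.ofπ γ (hγ (pullback.fst π π) (pullback.snd π π) pullback.condition))
  have hδ : (yon S).map π ≫ δ = γ := hc.fac _ WalkingParallelPair.one
  have hcond : δ ≫ f = (yon S).map sW ≫ a := by
    rw [← cancel_epi ((yon S).map π), reassoc_of% hδ, sq'.w, ← Functor.map_comp_assoc,
      ← Functor.map_comp_assoc, hπs]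
  let l : (yon S).obj W ⟶ pullback f a := pullback.lift δ ((yon S).map sW) hcond
  have hl₁ : l ≫ pullback.fst f a = δ := pullback.lift_fst _ _ _
  have hl₂ : l ≫ pullback.snd f a = (yon S).map sW := pullback.lift_snd _ _ _
  have : Epi l := by
    let m : (yon S).obj V ⟶ pullback f a :=
      pullback.lift γ ((yon S).map (g' ≫ b)) (by rw [Functor.map_comp, Category.assoc]; exact sq'.w)
    have hm₁ : m ≫ pullback.fst f a = γ := pullback.lift_fst _ _ _
    have hm₂ : m ≫ pullback.snd f a = (yon S).map (g' ≫ b) := pullback.lift_snd _ _ _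
    have hm : (yon S).map π ≫ l = m := by
      apply pullback.hom_ext
      · rw [Category.assoc, hl₁, hm₁, hδ]
      · rw [Category.assoc, hl₂, hm₂, ← Functor.map_comp, hπs]
    have sqm : IsPullback m ((yon S).map g') (pullback.snd f a) ((yon S).map b) := by
      refine IsPullback.of_right ?_ (hm₂.trans ((yon S).map_comp g' b))
        (IsPullback.of_hasPullback f a)
      rw [hm₁]
      exact sq'
    have : Sheaf.IsLocallySurjective m := Groth.L23.isLocallySurjective_of_repWith m
      (Groth.L23.repWith_of_isPullback sqm.flip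
        (Groth.L23.repWith_map (P := @Flat) inferInstance))
      (Groth.L23.repWith_of_isPullback sqm.flip
        (Groth.L23.repWith_map (P := @LocallyOfFinitePresentation) inferInstance))
      (Groth.L23.repWith_of_isPullback sqm.flip
        (Groth.L23.repWith_map (P := @Surjective) inferInstance))
    have : Epi m := inferInstance
    exact epi_of_epi_fac hm
  have : Mono l := by
    refine Groth.L23.mono_of_yon fun Z x y e => ?_
    obtain ⟨x, rfl⟩ := (yon S).map_surjective x
    obtain ⟨y, rfl⟩ := (yon S).map_surjective y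
    have eδ : (yon S).map x ≫ δ = (yon S).map y ≫ δ := by
      rw [← hl₁, ← Category.assoc, e, Category.assoc]
    have es : x ≫ sW = y ≫ sW := (yon S).map_injective (by
      rw [Functor.map_comp, Functor.map_comp, ← hl₂, ← Category.assoc, e, Category.assoc])
    let p₁ := pullback.fst x π
    let p₂ := pullback.fst (p₁ ≫ y) π
    let k₁ := p₂ ≫ pullback.snd x π
    let k₂ := pullback.snd (p₁ ≫ y) π
    have e1 : k₁ ≫ π = p₂ ≫ p₁ ≫ x := by simp [k₁, p₁, pullback.condition]
    have e2 : k₂ ≫ π = p₂ ≫ p₁ ≫ y := by simp [k₂, p₂, pullback.condition]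
    have key := hq k₁ k₂ ?_ ?_
    · have sq₁ := (IsPullback.of_hasPullback x π).flip.map (Over.forget S)
      have sq₂ := (IsPullback.of_hasPullback (p₁ ≫ y) π).flip.map (Over.forget S)
      have : Surjective p₁.left := MorphismProperty.of_isPullback sq₁ ‹Surjective π.left›
      have : Flat p₁.left := MorphismProperty.of_isPullback sq₁ ‹Flat π.left›
      have : LocallyOfFinitePresentation p₁.left :=
        MorphismProperty.of_isPullback sq₁ ‹LocallyOfFinitePresentation π.left›
      have : Surjective p₂.left := MorphismProperty.of_isPullback sq₂ ‹Surjective π.left›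
      have : Flat p₂.left := MorphismProperty.of_isPullback sq₂ ‹Flat π.left›
      have : LocallyOfFinitePresentation p₂.left :=
        MorphismProperty.of_isPullback sq₂ ‹LocallyOfFinitePresentation π.left›
      have := Groth.L23.QR.epi_yon_map p₁
      have := Groth.L23.QR.epi_yon_map p₂
      rw [← cancel_epi ((yon S).map p₁), ← cancel_epi ((yon S).map p₂)]
      simp only [← Functor.map_comp]
      exact congrArg (yon S).map (e1.symm.trans (key.trans e2))
    · rw [← hδ, ← Functor.map_comp_assoc, ← Functor.map_comp_assoc, e1, e2]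
      simp only [Functor.map_comp, Category.assoc, eδ]
    · rw [← hπs, reassoc_of% e1, reassoc_of% e2, es]
  have : IsIso l := isIso_of_mono_of_epi l
  refine ⟨W, sW, δ, IsPullback.of_iso_pullback ⟨hcond⟩ (asIso l) hl₁ hl₂, ?_⟩
  refine MorphismProperty.IsLocalAtTarget.of_forall_pullbackSnd (P := P)
    b.left.singleton_mem_fppfPrecoverage ?_
  intro Y v _ hv
  cases hv
  refine (P.cancel_left_of_respectsIso d.isPullback.flip.isoPullback.hom _).1 ?_
  exact (congrArg (fun m => P m) d.isPullback.flip.isoPullback_hom_snd).mpr hP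

end Groth.L20.SchDesc
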