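import Groth.Agent.L24.GrpQ.QuotSection
import Groth.Agent.L23.QuotRestrict
import Groth.Agent.S6041

/-!
For an equivalence relation with closed graph and fppf projections the fppf quotient sheaf is a sheaf
for the fpqc topology.
-/

set_option autoImplicit false
set_option backward.isDefEq.respectTransparency.types false

universe u

open CategoryTheory CategoryTheory.Limits AlgebraicGeometry MonoidalCategory CartesianMonoidalCategory Opposite

noncomputable section

namespace Groth.L24.GrpQ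

variable {S : Scheme.{u}}

theorem J_fppf_le_fpqc : QuotSh.J Scheme.fppfPrecoverage S ≤ QuotSh.J Scheme.fpqcPrecoverage S := by
  intro T W hW
  rw [GrothendieckTopology.mem_over_iff] at hW ⊢
  exact Scheme.fppfTopology_le_fpqcTopology _ hW

variable {R U : Over S} (s t : R ⟶ U)

/-- The fpqc quotient as an fppf sheaf. -/
def fpqcQuot : QuotSh.Sh Scheme.fppfPrecoverage S :=
  ⟨(QuotSh.quot Scheme.fpqcPrecoverage s t).obj,
    (isSheaf_iff_isSheaf_of_type _ _).2 (Presieve.isSheaf_of_le _ J_fppf_le_fpqc ((isSheaf_iff_isSheaf_of_type _ _).1 (QuotSh.quot Scheme.fpqcPrecoverage s t).property))⟩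

/-- A map out of a represented fppf sheaf as a map out of the represented fpqc sheaf. -/
def toFpqc {T : Over S} (x : (uy Scheme.fppfPrecoverage).obj T ⟶ fpqcQuot s t) :
    (uy Scheme.fpqcPrecoverage).obj T ⟶ QuotSh.quot Scheme.fpqcPrecoverage s t := ⟨x.hom⟩

theorem toFpqc_comp {V T : Over S} (g : V ⟶ T) (x : (uy Scheme.fppfPrecoverage).obj T ⟶ fpqcQuot s t) :
    toFpqc s t ((uy Scheme.fppfPrecoverage).map g ≫ x) = (uy Scheme.fpqcPrecoverage).map g ≫ toFpqc s t x := rfl

/-- The comparison map of quotients, on the represented sheaf. -/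
def qd : (uy Scheme.fppfPrecoverage).obj U ⟶ fpqcQuot s t :=
  ⟨(qπ Scheme.fpqcPrecoverage s t).hom⟩

theorem qd_condition :
    (uy Scheme.fppfPrecoverage).map s ≫ qd s t = (uy Scheme.fppfPrecoverage).map t ≫ qd s t := by
  have h : (uy Scheme.fpqcPrecoverage).map s ≫ qπ Scheme.fpqcPrecoverage s t =
      (uy Scheme.fpqcPrecoverage).map t ≫ qπ Scheme.fpqcPrecoverage s t := qπ_condition _ s t
  exact Sheaf.hom_ext (congrArg (fun m : (uy Scheme.fpqcPrecoverage).obj R ⟶ QuotSh.quot Scheme.fpqcPrecoverage s t => m.hom) h)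

/-- The comparison of the fppf and fpqc quotients. -/
def quotCmp : QuotSh.quot Scheme.fppfPrecoverage s t ⟶ fpqcQuot s t :=
  coequalizer.desc ((QuotSh.repIsoUliftYoneda Scheme.fppfPrecoverage U).hom ≫ qd s t) (by
    simp only [repMap_eq, Category.assoc, Iso.inv_hom_id_assoc]
    rw [qd_condition])

theorem qπ_quotCmp : qπ Scheme.fppfPrecoverage s t ≫ quotCmp s t = qd s t := by
  refine (Category.assoc _ _ _).trans ((congrArg (_ ≫ ·) (coequalizer.π_desc _ _)).trans ?_)
  exact Iso.inv_hom_id_assoc _ _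

variable [IsEquivalenceRelation s t]

theorem quotCmp_injective {T : Over S}
    (x y : (uy Scheme.fppfPrecoverage).obj T ⟶ QuotSh.quot Scheme.fppfPrecoverage s t)
    (h : x ≫ quotCmp s t = y ≫ quotCmp s t) : x = y := by
  obtain ⟨W₁, hW₁, h₁⟩ := exists_cover_lift Scheme.fppfPrecoverage s t x
  obtain ⟨W₂, hW₂, h₂⟩ := exists_cover_lift Scheme.fppfPrecoverage s t y
  refine hom_ext_of_cover _ (GrothendieckTopology.intersection_covering _ hW₁ hW₂) fun V g hg => ?_
  obtain ⟨a, ha⟩ := h₁ g hg.1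
  obtain ⟨b, hb⟩ := h₂ g hg.2
  have e : (uy Scheme.fppfPrecoverage).map a ≫ qd s t = (uy Scheme.fppfPrecoverage).map b ≫ qd s t := by
    rw [← qπ_quotCmp, ← Category.assoc, ← Category.assoc, ha, hb, Category.assoc, Category.assoc, h]
  rw [← ha, ← hb]
  exact qπ_eq_of_rel _ s t (rel_of_qπ_eq Scheme.fpqcPrecoverage s t a b (congrArg (toFpqc s t) e))

theorem quotCmp_surjective [Flat s.left] [Surjective s.left] [LocallyOfFinitePresentation s.left]
    (hc : IsClosedImmersion (lift t s).left) {T : Over S}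
    (σ : (uy Scheme.fppfPrecoverage).obj T ⟶ fpqcQuot s t) :
    ∃ x : (uy Scheme.fppfPrecoverage).obj T ⟶ QuotSh.quot Scheme.fppfPrecoverage s t, x ≫ quotCmp s t = σ := by
  obtain ⟨Z, i, -, -, hiff, hQ⟩ := exists_section_subscheme s t @IsClosedImmersion
    (fun f hf => have : IsClosedImmersion f := hf; inferInstance) hc T (toFpqc s t σ)
  have := hQ @Flat ‹_›
  have := hQ @Surjective ‹_›
  have := hQ @LocallyOfFinitePresentation ‹_›
  have hgood : ∀ {V : Over S} (z : V ⟶ Z), Good s t (toFpqc s t σ) (z ≫ i) := fun z => (hiff _).1 ⟨z, rfl⟩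
  obtain ⟨σf, hσf, -⟩ := Groth.Agent.S6041.result s t T Z i fun V z₁ z₂ h => by
    refine rel_of_qπ_eq Scheme.fpqcPrecoverage s t _ _ ?_
    have h₁ := hgood z₁
    have h₂ := hgood z₂
    simp only [Good, Category.assoc] at h₁ h₂
    rw [h₁, h₂, h]
  let x := (QuotSh.repIsoUliftYoneda Scheme.fppfPrecoverage T).inv ≫ σf
  refine ⟨x, ?_⟩
  have e1 : (uy Scheme.fppfPrecoverage).map (i ≫ fst U T) ≫ qπ Scheme.fppfPrecoverage s t =
      (uy Scheme.fppfPrecoverage).map (i ≫ snd U T) ≫ x := by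
    rw [← cancel_epi (QuotSh.repIsoUliftYoneda Scheme.fppfPrecoverage Z).hom, ← repMap_quotπ, hσf, repMap_eq]
    simp only [x, Category.assoc]
  have e2 : (uy Scheme.fppfPrecoverage).map (i ≫ fst U T) ≫ qd s t =
      (uy Scheme.fppfPrecoverage).map (i ≫ snd U T) ≫ σ :=
    Sheaf.hom_ext (congrArg
      (fun m : (uy Scheme.fpqcPrecoverage).obj Z ⟶ QuotSh.quot Scheme.fpqcPrecoverage s t => m.hom)
      ((hiff i).1 ⟨𝟙 Z, Category.id_comp i⟩))
  have : Epi ((uy Scheme.fppfPrecoverage).map (i ≫ snd U T)) := Groth.L23.QR.epi_yon_map (i ≫ snd U T)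
  rw [← cancel_epi ((uy Scheme.fppfPrecoverage).map (i ≫ snd U T)), ← e2, ← qπ_quotCmp,
    ← Category.assoc, ← e1, Category.assoc]

theorem isSheaf_fpqc_quot [Flat s.left] [Surjective s.left] [LocallyOfFinitePresentation s.left]
    (hc : IsClosedImmersion (lift t s).left) :
    Presheaf.IsSheaf (QuotSh.J Scheme.fpqcPrecoverage S) (QuotSh.quot Scheme.fppfPrecoverage s t).obj := by
  let J := QuotSh.J Scheme.fppfPrecoverage S
  have : ∀ T : (Over S)ᵒᵖ, IsIso ((quotCmp s t).hom.app T) := by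
    rintro ⟨T⟩
    rw [isIso_iff_bijective]
    refine ⟨fun x y h => ?_, fun z => ?_⟩
    · obtain ⟨x, rfl⟩ := J.uliftYonedaEquiv.{u + 1}.surjective x
      obtain ⟨y, rfl⟩ := J.uliftYonedaEquiv.{u + 1}.surjective y
      refine congrArg _ (quotCmp_injective s t x y (J.uliftYonedaEquiv.{u + 1}.injective ?_))
      rw [GrothendieckTopology.uliftYonedaEquiv_comp, GrothendieckTopology.uliftYonedaEquiv_comp]
      exact h
    · obtain ⟨σ, rfl⟩ := J.uliftYonedaEquiv.{u + 1}.surjective (z : (fpqcQuot s t).obj.obj (op T))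
      obtain ⟨x, rfl⟩ := quotCmp_surjective s t hc σ
      exact ⟨J.uliftYonedaEquiv.{u + 1} x, (GrothendieckTopology.uliftYonedaEquiv_comp _ _ _).symm⟩
  have : IsIso (quotCmp s t).hom := NatIso.isIso_of_isIso_app _
  exact (Presheaf.isSheaf_of_iso_iff (asIso (quotCmp s t).hom)).2
    (QuotSh.quot Scheme.fpqcPrecoverage s t).property

end Groth.L24.GrpQ
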