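import Groth.Agent.L20.SchDesc.Family
import Groth.Agent.L20.SchDesc.Refine
import Groth.Agent.L23.Descent
import Groth.Agent.L23.QFDescent

/-!
A predicate on points which is fpqc local and cut out by immersions on the members of an fpqc
covering family is cut out by a monomorphism of schemes.
-/

set_option autoImplicit false
set_option linter.style.haveILetI false
set_option backward.isDefEq.respectTransparency.types false

universe u

open CategoryTheory CategoryTheory.Limits AlgebraicGeometry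

noncomputable section

namespace Groth.L24.GrpQ

open Groth.L20.SchDesc

/-- A covering sieve of the fpqc topology contains a small covering family. -/
theorem exists_small_family {B : Scheme.{u}} {W : Sieve B} (hW : W ∈ Scheme.fpqcTopology B) :
    ∃ (ι : Type u) (X : ι → Scheme.{u}) (f : ∀ i, X i ⟶ B),
      Presieve.ofArrows X f ∈ Scheme.fpqcPrecoverage B ∧ ∀ i, W (f i) := by
  obtain ⟨R, hR, hle⟩ := Precoverage.mem_toGrothendieck_iff_of_isStableUnderComposition.1 hW
  obtain ⟨E, rfl⟩ := Precoverage.mem_iff_exists_zeroHypercover.1 hR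
  have : Precoverage.Small.{u} Scheme.fpqcPrecoverage.{u} :=
    inferInstanceAs (Precoverage.Small.{u} (Scheme.propQCPrecoverage @Flat))
  let E' := Precoverage.ZeroHypercover.restrictIndexOfSmall.{u} E
  exact ⟨E'.I₀, E'.X, E'.f, E'.mem₀, fun i => hle _ _ (Presieve.ofArrows.mk (Precoverage.ZeroHypercover.Small.restrictFun E i))⟩

theorem prop_of_cov (P : MorphismProperty Scheme.{u}) [P.IsStableUnderBaseChange] [IsZariskiLocalAtTarget P]
    [P.DescendsAlong (@Surjective ⊓ @Flat ⊓ @QuasiCompact)] {X B Z : Scheme.{u}} (p : X ⟶ B) [Cov p]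
    (g : Z ⟶ B) (h : P (pullback.fst p g)) : P g := by
  obtain ⟨Y, Z', c, e, z, he, hef, hes, heq, hzf, hzs, hzl⟩ := Cov.exists_chart (p := p)
  have h1 : P (pullback.fst (e ≫ z) g) := by
    rw [← he]
    rw [← pullbackRightPullbackFstIso_inv_fst p g c]
    exact MorphismProperty.RespectsIso.precomp P _ _ (MorphismProperty.of_isPullback (P := P)
      (IsPullback.of_hasPullback c (pullback.fst p g)).flip h)
  have h2 : P (pullback.fst z g) := by
    refine MorphismProperty.of_isPullback_of_descendsAlong (P := P)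
      (Q := (@Surjective ⊓ @Flat ⊓ @QuasiCompact : MorphismProperty Scheme.{u}))
      (IsPullback.of_hasPullback e (pullback.fst z g)) ⟨⟨hes, hef⟩, heq⟩ ?_
    rw [← pullbackRightPullbackFstIso_hom_fst z g e]
    exact MorphismProperty.RespectsIso.precomp P _ _ h1
  exact MorphismProperty.of_isPullback_of_descendsAlong (P := P)
    (Q := (@Surjective ⊓ @Flat ⊓ @LocallyOfFinitePresentation : MorphismProperty Scheme.{u}))
    (IsPullback.of_hasPullback z g) ⟨⟨hzs, hzf⟩, hzl⟩ h2

/-- A property of morphisms local on the target and descending along fpqc morphisms descends along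
fpqc covering families. -/
theorem prop_of_family (P : MorphismProperty Scheme.{u}) [P.IsStableUnderBaseChange] [IsZariskiLocalAtTarget P]
    [P.DescendsAlong (@Surjective ⊓ @Flat ⊓ @QuasiCompact)] {ι : Type u} {B Z : Scheme.{u}}
    {X : ι → Scheme.{u}} (f : ∀ i, X i ⟶ B) (hf : Presieve.ofArrows X f ∈ Scheme.fpqcPrecoverage B)
    (g : Z ⟶ B) (h : ∀ i, P (pullback.fst (f i) g)) : P g := by
  have := cov_sigmaDesc f hf
  refine prop_of_cov P (Sigma.desc f) g ?_
  refine (IsZariskiLocalAtTarget.iff_of_openCover (sigmaOpenCover X)).2 fun i => ?_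
  have sq : IsPullback (pullback.lift (pullback.fst (f i) g ≫ Sigma.ι X i) (pullback.snd (f i) g)
      (by rw [Category.assoc, Sigma.ι_desc, pullback.condition])) (pullback.fst (f i) g)
      (pullback.fst (Sigma.desc f) g) (Sigma.ι X i) := by
    refine IsPullback.of_right ?_ (pullback.lift_fst _ _ _) (IsPullback.of_hasPullback (Sigma.desc f) g).flip
    rw [pullback.lift_snd, Sigma.ι_desc]
    exact (IsPullback.of_hasPullback (f i) g).flip
  show P (pullback.snd (pullback.fst (Sigma.desc f) g) (Sigma.ι X i))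
  rw [← sq.isoPullback_inv_snd]
  exact MorphismProperty.RespectsIso.precomp P _ _ (h i)

variable {B : Scheme.{u}} (Φ : ∀ {T : Scheme.{u}}, (T ⟶ B) → Prop)

/-- An fpqc local predicate cut out by immersions on a covering family is cut out by a monomorphism. -/
theorem exists_rep_pred (hnat : ∀ {T' T : Scheme.{u}} (g : T' ⟶ T) (x : T ⟶ B), Φ x → Φ (g ≫ x))
    (hloc : ∀ {T : Scheme.{u}} {κ : Type u} {A : κ → Scheme.{u}} (e : ∀ k, A k ⟶ T),
      Presieve.ofArrows A e ∈ Scheme.fpqcPrecoverage T → ∀ x : T ⟶ B, (∀ k, Φ (e k ≫ x)) → Φ x)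
    {ι : Type u} {X : ι → Scheme.{u}} (f : ∀ i, X i ⟶ B)
    (hf : Presieve.ofArrows X f ∈ Scheme.fpqcPrecoverage B)
    {W : ι → Scheme.{u}} (j : ∀ i, W i ⟶ X i) [∀ i, IsImmersion (j i)]
    (hj : ∀ (i : ι) {T : Scheme.{u}} (x : T ⟶ X i), (∃ z, z ≫ j i = x) ↔ Φ (x ≫ f i)) :
    ∃ (Z : Scheme.{u}) (a : Z ⟶ B), Mono a ∧ (∀ {T : Scheme.{u}} (x : T ⟶ B), (∃ z, z ≫ a = x) ↔ Φ x) ∧
      ∀ i, ∃ (e : W i ≅ pullback (f i) a), e.hom ≫ pullback.fst (f i) a = j i := by
  have hne : ∀ {T : Scheme.{u}} {i k : ι} (x₀ : T ⟶ X i) (x₁ : T ⟶ X k), x₀ ≫ f i = x₁ ≫ f k →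
      Desc.Lifts (Over.mk (j i)) x₀ → Nonempty (Desc.Lifts (Over.mk (j k)) x₁) := fun {T i k} x₀ x₁ h v => by
    obtain ⟨z, hz⟩ := (hj k x₁).2 (h ▸ (hj i x₀).1 ⟨v.1, v.2⟩)
    exact ⟨⟨z, hz⟩⟩
  have hsub : ∀ {T : Scheme.{u}} (i : ι) (x : T ⟶ X i), Subsingleton (Desc.Lifts (Over.mk (j i)) x) :=
    fun i x => ⟨fun v w => Subtype.ext ((cancel_mono (j i)).1 (v.2.trans w.2.symm))⟩
  let D : Desc.SchDDFam f :=
    { obj := fun i => Over.mk (j i)
      φ := fun T i k x₀ x₁ h =>
        { toFun := fun v => (hne x₀ x₁ h v).some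
          invFun := fun v => (hne x₁ x₀ h.symm v).some
          left_inv := fun v => (hsub i x₀).elim _ _
          right_inv := fun v => (hsub k x₁).elim _ _ }
      φ_natural := fun T T' g i k x₀ x₁ h y₀ y₁ hy₀ hy₁ h' v v' hv => by
        subst hy₁
        exact congrArg Subtype.val ((hsub k _).elim _ ⟨g ≫ ((hne x₀ x₁ h v).some).1,
          (Category.assoc _ _ _).trans (congrArg (g ≫ ·) ((hne x₀ x₁ h v).some).2)⟩)
      φ_self := fun T i x v => (hsub i x).elim _ _
      φ_comp := fun T i k l x₀ x₁ x₂ h₀₁ h₁₂ v => (hsub l x₂).elim _ _ }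
  obtain ⟨U, ⟨e⟩⟩ : D.IsEffective := isEffective_of_isIndQuasiAffineHom D hf fun i =>
    Groth.L20.isIndQuasiAffineHom_of_isImmersion (j i)
  let a : U.left ⟶ B := U.hom
  let eI : ∀ i, W i ≅ pullback (f i) a := fun i =>
    { hom := (e.inv.hom i).left
      inv := (e.hom.hom i).left
      hom_inv_id := congrArg CommaMorphism.left (congrArg (fun m : D ⟶ D => m.hom i) e.inv_hom_id)
      inv_hom_id := congrArg CommaMorphism.left
        (congrArg (fun m : (Desc.toDDFam f).obj U ⟶ (Desc.toDDFam f).obj U => m.hom i) e.hom_inv_id) }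
  have he₁ : ∀ i, (eI i).hom ≫ pullback.fst (f i) a = j i := fun i => Over.w (e.inv.hom i)
  have he₂ : ∀ i, (eI i).inv ≫ j i = pullback.fst (f i) a := fun i => Over.w (e.hom.hom i)
  have hfst : ∀ i, Mono (pullback.fst (f i) a) := fun i => by
    rw [← he₂ i]
    have : Mono (j i) := inferInstance
    have : IsIso (eI i).inv := (eI i).isIso_inv
    exact mono_comp _ _
  have hmono : Mono a := ⟨fun {T} g₁ g₂ h => by
    refine eq_of_family _ (Precoverage.mem_coverings_of_isPullback _ hf (g₁ ≫ a)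
      (fun i => pullback.fst (g₁ ≫ a) (f i)) (fun i => pullback.snd _ _)
      fun i => IsPullback.of_hasPullback _ _) fun i => ?_
    let k₁ := pullback.fst (g₁ ≫ a) (f i)
    have c₁ : pullback.snd (g₁ ≫ a) (f i) ≫ f i = (k₁ ≫ g₁) ≫ a := by
      rw [Category.assoc, ← pullback.condition]
    have c₂ : pullback.snd (g₁ ≫ a) (f i) ≫ f i = (k₁ ≫ g₂) ≫ a := by
      exact c₁.trans ((Category.assoc _ _ _).trans ((congrArg (k₁ ≫ ·) h).trans (Category.assoc _ _ _).symm))
    have := hfst i
    have key : pullback.lift _ _ c₁ = pullback.lift _ _ c₂ :=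
      (cancel_mono (pullback.fst (f i) a)).1 (by rw [pullback.lift_fst, pullback.lift_fst])
    have := congrArg (· ≫ pullback.snd (f i) a) key
    simpa only [pullback.lift_snd] using this⟩
  refine ⟨U.left, a, hmono, fun {T} x => ⟨?_, fun hx => ?_⟩, fun i => ⟨eI i, he₁ i⟩⟩
  · rintro ⟨z, rfl⟩
    refine hnat z a (hloc _ (Precoverage.mem_coverings_of_isPullback _ hf a
      (fun i => pullback.snd (f i) a) (fun i => pullback.fst _ _)
      fun i => (IsPullback.of_hasPullback _ _).flip) a fun i => ?_)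
    rw [← pullback.condition]
    exact (hj i _).1 ⟨_, he₂ i⟩
  · have hmem := Precoverage.mem_coverings_of_isPullback _ hf x
      (fun i => pullback.fst x (f i)) (fun i => pullback.snd _ _) fun i => IsPullback.of_hasPullback _ _
    have hz : ∀ i, ∃ z, z ≫ j i = pullback.snd x (f i) := fun i => (hj i _).2 (by
      rw [← pullback.condition]; exact hnat _ _ hx)
    choose z hz using hz
    have hφ : ∀ i, ((z i ≫ (eI i).hom) ≫ pullback.snd (f i) a) ≫ a = pullback.fst x (f i) ≫ x :=
      fun i => by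
      rw [Category.assoc, ← pullback.condition, Category.assoc, reassoc_of% (he₁ i), ← Category.assoc, hz,
        pullback.condition]
    obtain ⟨m, hm⟩ := exists_desc_family _ hmem
      (fun i => (z i ≫ (eI i).hom) ≫ pullback.snd (f i) a) fun {T'} i k c d hcd => by
      rw [← cancel_mono a, Category.assoc, hφ, Category.assoc, hφ, reassoc_of% hcd]
    refine ⟨m, eq_of_family _ hmem fun i => ?_⟩
    rw [reassoc_of% (hm i)]
    exact hφ i

end Groth.L24.GrpQ
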