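import Groth.Agent.L24.GrpQ.SheafQuot
import Groth.Agent.L24.GrpQ.PredRep

/-!
Sections of the fpqc quotient sheaf of an equivalence relation with immersive graph as subschemes
of the product.
-/

set_option autoImplicit false
set_option linter.style.haveILetI false
set_option backward.isDefEq.respectTransparency.types false

universe u

open CategoryTheory CategoryTheory.Limits AlgebraicGeometry MonoidalCategory CartesianMonoidalCategory Opposite

noncomputable section

namespace Groth.L24.GrpQ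

variable {S : Scheme.{u}}

/-- Multiplying by an object gives cartesian squares. -/
theorem isPullback_whiskerLeft (U : Over S) {A B : Over S} (g : A ⟶ B) :
    IsPullback (U ◁ g) (snd U A) (snd U B) g :=
  ⟨⟨whiskerLeft_snd U g⟩, ⟨PullbackCone.IsLimit.mk _ (fun c => lift (c.fst ≫ fst U B) c.snd)
    (fun c => by
      apply hom_ext
      · simp
      · simp [c.condition])
    (fun c => by simp)
    (fun c m h₁ h₂ => by
      apply hom_ext
      · simp [← h₁]
      · simpa using h₂)⟩⟩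

variable {R U : Over S} (s t : R ⟶ U)

/-- A point of `U × T` whose class is the given section. -/
def Good {T : Over S} (σ : (uy Scheme.fpqcPrecoverage).obj T ⟶ QuotSh.quot Scheme.fpqcPrecoverage s t)
    {V : Over S} (m : V ⟶ U ⊗ T) : Prop :=
  (uy Scheme.fpqcPrecoverage).map (m ≫ fst U T) ≫ qπ Scheme.fpqcPrecoverage s t =
    (uy Scheme.fpqcPrecoverage).map (m ≫ snd U T) ≫ σ

variable {T : Over S} {σ : (uy Scheme.fpqcPrecoverage).obj T ⟶ QuotSh.quot Scheme.fpqcPrecoverage s t}

theorem Good.comp {V V' : Over S} {m : V ⟶ U ⊗ T} (h : Good s t σ m) (g : V' ⟶ V) :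
    Good s t σ (g ≫ m) := by
  simp only [Good, Category.assoc, Functor.map_comp] at h ⊢
  rw [h]

/-- A covering family of schemes generates a covering sieve of the site over the base. -/
theorem mem_of_family {κ : Type u} {V : Over S} {A : κ → Scheme.{u}} (e : ∀ k, A k ⟶ V.left)
    (he : Presieve.ofArrows A e ∈ Scheme.fpqcPrecoverage V.left) :
    Sieve.ofArrows (fun k => Over.mk (e k ≫ V.hom)) (fun k => (Over.homMk (e k) rfl : Over.mk (e k ≫ V.hom) ⟶ V)) ∈
      QuotSh.J Scheme.fpqcPrecoverage S V := by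
  rw [GrothendieckTopology.mem_over_iff]
  refine GrothendieckTopology.superset_covering _ ?_ (Precoverage.generate_mem_toGrothendieck he)
  rw [Sieve.generate_le_iff]
  rintro Y _ ⟨k⟩
  exact (Sieve.overEquiv_iff _ _).2 (Sieve.ofArrows_mk _ _ k)

theorem good_of_family {κ : Type u} {V : Over S} {A : κ → Scheme.{u}} (e : ∀ k, A k ⟶ V.left)
    (he : Presieve.ofArrows A e ∈ Scheme.fpqcPrecoverage V.left) {m : V ⟶ U ⊗ T}
    (h : ∀ k, Good s t σ ((Over.homMk (e k) rfl : Over.mk (e k ≫ V.hom) ⟶ V) ≫ m)) : Good s t σ m := by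
  refine hom_ext_of_cover _ (mem_of_family e he) ?_
  rintro W _ ⟨W', g, _, ⟨k⟩, rfl⟩
  have := h k
  simp only [Good, Category.assoc, Functor.map_comp] at this ⊢
  rw [this]

theorem good_congr {V V' : Over S} (i : V' ⟶ V) (hi : IsIso i) {m : V ⟶ U ⊗ T} {m' : V' ⟶ U ⊗ T}
    (e : i ≫ m = m') : Good s t σ m' ↔ Good s t σ m := by
  subst e
  refine ⟨fun h => ?_, fun h => h.comp s t i⟩
  simpa using h.comp s t (inv i)

/-- A point of `U × T` whose class is the given section, as a predicate on morphisms of schemes. -/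
def GoodL (σ : (uy Scheme.fpqcPrecoverage).obj T ⟶ QuotSh.quot Scheme.fpqcPrecoverage s t)
    {X : Scheme.{u}} (x : X ⟶ (U ⊗ T).left) : Prop :=
  Good s t σ (Over.homMk x rfl : Over.mk (x ≫ (U ⊗ T).hom) ⟶ U ⊗ T)

theorem goodL_iff {V : Over S} (m : V ⟶ U ⊗ T) : GoodL s t σ m.left ↔ Good s t σ m :=
  good_congr s t (Over.homMk (𝟙 V.left) ((Category.id_comp _).trans (Over.w m).symm) : Over.mk (m.left ≫ (U ⊗ T).hom) ⟶ V)
    (by
      have : IsIso ((Over.forget S).map (Over.homMk (𝟙 V.left) ((Category.id_comp _).trans (Over.w m).symm) :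
          Over.mk (m.left ≫ (U ⊗ T).hom) ⟶ V)) := by
        show IsIso (𝟙 V.left)
        infer_instance
      exact isIso_of_reflects_iso _ (Over.forget S))
    (Over.OverMorphism.ext (Category.id_comp _))

variable [IsEquivalenceRelation s t]

/-- The subscheme of the product of a section: existence. -/
theorem exists_section_subscheme (P : MorphismProperty Scheme.{u}) [P.IsStableUnderBaseChange]
    [IsZariskiLocalAtTarget P] [P.DescendsAlong (@Surjective ⊓ @Flat ⊓ @QuasiCompact)]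
    (hP : ∀ {A B : Scheme.{u}} (f : A ⟶ B), P f → IsImmersion f) (hc : P (lift t s).left) (T : Over S)
    (σ : (uy Scheme.fpqcPrecoverage).obj T ⟶ QuotSh.quot Scheme.fpqcPrecoverage s t) :
    ∃ (Z : Over S) (i : Z ⟶ U ⊗ T), P i.left ∧ Mono i.left ∧
      (∀ {V : Over S} (m : V ⟶ U ⊗ T), (∃ z, z ≫ i = m) ↔ Good s t σ m) ∧
      ∀ (Q : MorphismProperty Scheme.{u}) [Q.IsStableUnderBaseChange] [IsZariskiLocalAtTarget Q]
        [Q.DescendsAlong (@Surjective ⊓ @Flat ⊓ @QuasiCompact)], Q s.left → Q (i ≫ snd U T).left := by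
  let K := Scheme.fpqcPrecoverage.{u}
  obtain ⟨W₀, hW₀, hlift⟩ := exists_cover_lift K s t σ
  rw [GrothendieckTopology.mem_over_iff] at hW₀
  obtain ⟨ι, Y, g, hg, hgW⟩ := exists_small_family hW₀
  let Ti : ι → Over S := fun i => Over.mk (g i ≫ T.hom)
  let gi : ∀ i, Ti i ⟶ T := fun i => Over.homMk (g i) rfl
  have hWi : ∀ i, ∃ a : Ti i ⟶ U, (uy K).map a ≫ qπ K s t = (uy K).map (gi i) ≫ σ := fun i =>
    hlift _ ((Sieve.overEquiv_iff _ _).1 (hgW i))
  choose u hu using hWi
  let Wt : ι → Over S := fun i => pullback (lift t s) (U ◁ u i)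
  let j : ∀ i, Wt i ⟶ U ⊗ Ti i := fun i => pullback.snd (lift t s) (U ◁ u i)
  have hjP : ∀ i, P (j i).left := fun i =>
    MorphismProperty.of_isPullback (P := P) ((IsPullback.of_hasPullback (lift t s) (U ◁ u i)).flip.map (Over.forget S)).flip hc
  have hjI : ∀ i, IsImmersion (j i).left := fun i => hP _ (hjP i)
  have hf : Presieve.ofArrows (fun i => (U ⊗ Ti i).left) (fun i => (U ◁ gi i).left) ∈
      Scheme.fpqcPrecoverage (U ⊗ T).left :=
    Precoverage.mem_coverings_of_isPullback _ hg (snd U T).left _ (fun i => (snd U (Ti i)).left)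
      fun i => (isPullback_whiskerLeft U (gi i)).map (Over.forget S)
  have hj : ∀ (i : ι) {X : Scheme.{u}} (x : X ⟶ (U ⊗ Ti i).left),
      (∃ z, z ≫ (j i).left = x) ↔ GoodL s t σ (x ≫ (U ◁ gi i).left) := fun i X x => by
    let m : Over.mk (x ≫ (U ⊗ Ti i).hom) ⟶ U ⊗ Ti i := Over.homMk x rfl
    have key : GoodL s t σ (x ≫ (U ◁ gi i).left) ↔ Rel s t _ (m ≫ snd U (Ti i) ≫ u i) (m ≫ fst U (Ti i)) := by
      refine (goodL_iff s t (m ≫ U ◁ gi i)).trans ?_
      have e : (uy K).map ((m ≫ U ◁ gi i) ≫ snd U T) ≫ σ =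
          (uy K).map (m ≫ snd U (Ti i) ≫ u i) ≫ qπ K s t := by
        simp only [Category.assoc, whiskerLeft_snd, Functor.map_comp, hu]
      show (uy K).map ((m ≫ U ◁ gi i) ≫ fst U T) ≫ qπ K s t = _ ↔ _
      rw [e, Category.assoc, whiskerLeft_fst]
      exact ⟨fun h => rel_of_qπ_eq K s t _ _ h.symm, fun h => (qπ_eq_of_rel K s t h).symm⟩
    rw [key]
    constructor
    · rintro ⟨z, hz⟩
      let z' : Over.mk (x ≫ (U ⊗ Ti i).hom) ⟶ Wt i := Over.homMk z (by
        show z ≫ _ = x ≫ _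
        rw [← Over.w (j i), reassoc_of% hz])
      have hz' : z' ≫ j i = m := Over.OverMorphism.ext hz
      have hw : pullback.fst (lift t s) (U ◁ u i) ≫ lift t s = j i ≫ U ◁ u i := pullback.condition
      refine ⟨z' ≫ pullback.fst _ _, ?_, ?_⟩
      · rw [← hz', Category.assoc, Category.assoc, ← whiskerLeft_snd, ← reassoc_of% hw, lift_snd]
      · rw [← hz', Category.assoc, Category.assoc, ← whiskerLeft_fst U (u i), ← reassoc_of% hw, lift_fst]
    · rintro ⟨r, hr₁, hr₂⟩
      have hc' : r ≫ lift t s = m ≫ U ◁ u i := by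
        apply hom_ext
        · simp [hr₂]
        · simp [hr₁]
      exact ⟨(pullback.lift r m hc').left,
        congrArg CommaMorphism.left (pullback.lift_snd r m hc')⟩
  obtain ⟨Z, a, ha, hiff, hiso⟩ := exists_rep_pred (fun {X} x => GoodL s t σ x)
    (fun {X' X} k x h => (goodL_iff s t
      ((Over.homMk k (Category.assoc _ _ _).symm : Over.mk ((k ≫ x) ≫ (U ⊗ T).hom) ⟶ Over.mk (x ≫ (U ⊗ T).hom)) ≫
        Over.homMk x rfl)).2 (Good.comp s t h _))
    (fun {X κ A} e he x h => good_of_family s t (V := Over.mk (x ≫ (U ⊗ T).hom)) e he fun k => by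
      have := (goodL_iff s t ((Over.homMk (e k) rfl : Over.mk (e k ≫ x ≫ (U ⊗ T).hom) ⟶ Over.mk (x ≫ (U ⊗ T).hom)) ≫
        Over.homMk x rfl)).1 (h k)
      exact this)
    (fun i => (U ◁ gi i).left) hf (fun i => (j i).left) hj
  let Zo : Over S := Over.mk (a ≫ (U ⊗ T).hom)
  let io : Zo ⟶ U ⊗ T := Over.homMk a rfl
  have hPa : P a := prop_of_family P _ hf a fun i => by
    obtain ⟨e, he⟩ := hiso i
    rw [← e.inv_hom_id_assoc (pullback.fst _ a), he]
    exact MorphismProperty.RespectsIso.precomp P _ _ (hjP i)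
  refine ⟨Zo, io, hPa, ha, fun {V} m => ?_, fun Q _ _ _ hQ => ?_⟩
  · rw [← goodL_iff s t m]
    refine Iff.trans ⟨fun ⟨z, hz⟩ => ⟨z.left, congrArg CommaMorphism.left hz⟩, fun ⟨z, hz⟩ =>
      ⟨Over.homMk z (by show z ≫ a ≫ _ = _; rw [reassoc_of% hz, Over.w m]), Over.OverMorphism.ext hz⟩⟩
      (hiff m.left)
  · refine prop_of_family Q g hg _ fun i => ?_
    obtain ⟨e, he⟩ := hiso i
    have sq1 : IsPullback (e.hom ≫ pullback.snd _ a) (j i).left a (U ◁ gi i).left :=
      (IsPullback.of_iso (IsPullback.of_hasPullback (U ◁ gi i).left a).flip e.symm (Iso.refl _) (Iso.refl _)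
        (Iso.refl _) (by simp) (by simp [← he]) (by simp) (by simp))
    have sq := sq1.paste_vert ((isPullback_whiskerLeft U (gi i)).map (Over.forget S))
    have hq : Q ((j i).left ≫ (snd U (Ti i)).left) := by
      refine MorphismProperty.of_isPullback (P := Q) (((IsPullback.of_hasPullback (lift t s) (U ◁ u i)).paste_vert
        (isPullback_whiskerLeft U (u i))).map (Over.forget S)) ?_
      show Q (lift t s ≫ snd U U).left
      rwa [lift_snd]
    have sq' : IsPullback ((j i).left ≫ (snd U (Ti i)).left) (e.hom ≫ pullback.snd (U ◁ gi i).left a)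
        (g i) (a ≫ (snd U T).left) := sq.flip
    show Q (pullback.fst (g i) (a ≫ (snd U T).left))
    rw [← sq'.isoPullback_inv_fst]
    exact MorphismProperty.RespectsIso.precomp Q _ _ hq

/-- Any subscheme with the properties of the section consists of the good points. -/
theorem factor_iff_good {T Z : Over S} (i : Z ⟶ U ⊗ T) [Mono i.left]
    (σ : (uy Scheme.fpqcPrecoverage).obj T ⟶ QuotSh.quot Scheme.fpqcPrecoverage s t)
    (hst : ∀ (T' : Over S) (r : T' ⟶ R ⊗ T),
      (∃ z : T' ⟶ Z, z ≫ i = r ≫ (s ▷ T)) ↔ (∃ z : T' ⟶ Z, z ≫ i = r ≫ (t ▷ T)))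
    [Flat (i ≫ snd U T).left] [Surjective (i ≫ snd U T).left] [QuasiCompact (i ≫ snd U T).left]
    (hσ : Good s t σ i) {V : Over S} (m : V ⟶ U ⊗ T) : (∃ z, z ≫ i = m) ↔ Good s t σ m := by
  refine ⟨fun ⟨z, hz⟩ => hz ▸ hσ.comp s t z, fun hm => ?_⟩
  let q := i ≫ snd U T
  let p := pullback.fst (m ≫ snd U T) q
  let z := pullback.snd (m ≫ snd U T) q
  have sq := (IsPullback.of_hasPullback (m ≫ snd U T) q).flip.map (Over.forget S)
  have : Flat p.left := MorphismProperty.of_isPullback (P := @Flat) sq ‹_›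
  have : Surjective p.left := MorphismProperty.of_isPullback (P := @Surjective) sq ‹_›
  have : QuasiCompact p.left := MorphismProperty.of_isPullback (P := @QuasiCompact) sq ‹_›
  have hcl : (uy Scheme.fpqcPrecoverage).map (p ≫ m ≫ fst U T) ≫ qπ Scheme.fpqcPrecoverage s t =
      (uy Scheme.fpqcPrecoverage).map (z ≫ i ≫ fst U T) ≫ qπ Scheme.fpqcPrecoverage s t := by
    have h1 := hm.comp s t p
    have h2 := hσ.comp s t z
    have hc : p ≫ m ≫ snd U T = z ≫ i ≫ snd U T := pullback.condition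
    simp only [Good, Category.assoc] at h1 h2
    rw [h1, h2, hc]
  obtain ⟨r, hr₁, hr₂⟩ := rel_of_qπ_eq _ s t _ _ hcl
  have hs : lift r (p ≫ m ≫ snd U T) ≫ (s ▷ T) = p ≫ m := by
    apply hom_ext
    · simp [hr₁]
    · simp
  have ht : lift r (p ≫ m ≫ snd U T) ≫ (t ▷ T) = z ≫ i := by
    apply hom_ext
    · simp [hr₂]
    · have hc : p ≫ m ≫ snd U T = z ≫ i ≫ snd U T := pullback.condition
      simp [hc]
  obtain ⟨z₁, hz₁⟩ := (hst _ (lift r (p ≫ m ≫ snd U T))).2 ⟨z, ht.symm⟩
  rw [hs] at hz₁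
  have hz₁' : z₁.left ≫ i.left = p.left ≫ m.left := congrArg CommaMorphism.left hz₁
  have hd : ∀ {X : Scheme.{u}} (a b : X ⟶ (pullback (m ≫ snd U T) q).left),
      a ≫ p.left = b ≫ p.left → a ≫ z₁.left = b ≫ z₁.left := fun a b h => by
    rw [← cancel_mono i.left, Category.assoc, Category.assoc, hz₁', reassoc_of% h]
  let d := EffectiveEpi.desc p.left z₁.left hd
  have hd' : d ≫ i.left = m.left := by
    rw [← cancel_epi p.left, EffectiveEpi.fac_assoc, hz₁']
  exact ⟨Over.homMk d (by rw [← Over.w i, reassoc_of% hd', Over.w m]), Over.OverMorphism.ext hd'⟩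

end Groth.L24.GrpQ
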