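import Groth.Agent.L24.GrpQ.QuotSection

/-!
The points of the fpqc quotient of an equivalence relation with immersive graph as subschemes.
-/

set_option autoImplicit false
set_option backward.isDefEq.respectTransparency.types false

universe u

open CategoryTheory CategoryTheory.Limits AlgebraicGeometry MonoidalCategory CartesianMonoidalCategory

noncomputable section

namespace Groth.L24.GrpQ

variable {S : Scheme.{u}} {R U : Over S} (s t : R ⟶ U)

theorem good_iff {T Z : Over S} (i : Z ⟶ U ⊗ T)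
    (σ : QuotSh.rep Scheme.fpqcPrecoverage T ⟶ QuotSh.quot Scheme.fpqcPrecoverage s t) :
    Good s t ((QuotSh.repIsoUliftYoneda Scheme.fpqcPrecoverage T).inv ≫ σ) i ↔
      QuotSh.repMap Scheme.fpqcPrecoverage (i ≫ fst U T) ≫ QuotSh.quotπ Scheme.fpqcPrecoverage s t =
        QuotSh.repMap Scheme.fpqcPrecoverage (i ≫ snd U T) ≫ σ := by
  rw [repMap_quotπ, repMap_eq _ (i ≫ snd U T), Good]
  simp only [Category.assoc, cancel_epi]

variable [IsEquivalenceRelation s t]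

theorem exists_stable_subscheme [Flat s.left] [Surjective s.left] [QuasiCompact s.left]
    (P : MorphismProperty Scheme.{u}) [P.IsStableUnderBaseChange]
    [IsZariskiLocalAtTarget P] [P.DescendsAlong (@Surjective ⊓ @Flat ⊓ @QuasiCompact)]
    (hP : ∀ {A B : Scheme.{u}} (f : A ⟶ B), P f → IsImmersion f) (hc : P (lift t s).left) (T : Over S)
    (σ : QuotSh.rep Scheme.fpqcPrecoverage T ⟶ QuotSh.quot Scheme.fpqcPrecoverage s t) :
    (∃ (Z : Over S) (i : Z ⟶ U ⊗ T), P i.left ∧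
      (∀ (T' : Over S) (r : T' ⟶ R ⊗ T),
        (∃ z : T' ⟶ Z, z ≫ i = r ≫ (s ▷ T)) ↔ (∃ z : T' ⟶ Z, z ≫ i = r ≫ (t ▷ T))) ∧
      Flat (i ≫ snd U T).left ∧ Surjective (i ≫ snd U T).left ∧
      QuasiCompact (i ≫ snd U T).left ∧
      (∀ (T' : Over S) (z₁ z₂ : T' ⟶ Z), z₁ ≫ i ≫ snd U T = z₂ ≫ i ≫ snd U T →
        ∃ r : T' ⟶ R, r ≫ s = z₁ ≫ i ≫ fst U T ∧ r ≫ t = z₂ ≫ i ≫ fst U T) ∧
      QuotSh.repMap Scheme.fpqcPrecoverage (i ≫ fst U T) ≫ QuotSh.quotπ Scheme.fpqcPrecoverage s t =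
        QuotSh.repMap Scheme.fpqcPrecoverage (i ≫ snd U T) ≫ σ) ∧
    (∀ (Z Z' : Over S) (i : Z ⟶ U ⊗ T) (i' : Z' ⟶ U ⊗ T),
      P i.left → P i'.left →
      (∀ (T' : Over S) (r : T' ⟶ R ⊗ T),
        (∃ z : T' ⟶ Z, z ≫ i = r ≫ (s ▷ T)) ↔ (∃ z : T' ⟶ Z, z ≫ i = r ≫ (t ▷ T))) →
      (∀ (T' : Over S) (r : T' ⟶ R ⊗ T),
        (∃ z : T' ⟶ Z', z ≫ i' = r ≫ (s ▷ T)) ↔ (∃ z : T' ⟶ Z', z ≫ i' = r ≫ (t ▷ T))) →
      Flat (i ≫ snd U T).left → Surjective (i ≫ snd U T).left →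
      QuasiCompact (i ≫ snd U T).left →
      Flat (i' ≫ snd U T).left → Surjective (i' ≫ snd U T).left →
      QuasiCompact (i' ≫ snd U T).left →
      QuotSh.repMap Scheme.fpqcPrecoverage (i ≫ fst U T) ≫ QuotSh.quotπ Scheme.fpqcPrecoverage s t =
        QuotSh.repMap Scheme.fpqcPrecoverage (i ≫ snd U T) ≫ σ →
      QuotSh.repMap Scheme.fpqcPrecoverage (i' ≫ fst U T) ≫ QuotSh.quotπ Scheme.fpqcPrecoverage s t =
        QuotSh.repMap Scheme.fpqcPrecoverage (i' ≫ snd U T) ≫ σ →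
      ∃ e : Z ≅ Z', e.hom ≫ i' = i) := by
  let K := Scheme.fpqcPrecoverage.{u}
  let σ₀ := (QuotSh.repIsoUliftYoneda K T).inv ≫ σ
  refine ⟨?_, fun Z Z' i i' hi hi' hst hst' hf hs hq hf' hs' hq' he he' => ?_⟩
  · obtain ⟨Z, i, hi, -, hiff, hQ⟩ := exists_section_subscheme s t P hP hc T σ₀
    have hgood : ∀ {V : Over S} (z : V ⟶ Z), Good s t σ₀ (z ≫ i) := fun z => (hiff _).1 ⟨z, rfl⟩
    refine ⟨Z, i, hi, fun T' r => ?_, hQ @Flat ‹_›, hQ @Surjective ‹_›, hQ @QuasiCompact ‹_›,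
      fun T' z₁ z₂ h => ?_, (good_iff s t i σ).1 ((hiff i).1 ⟨𝟙 Z, Category.id_comp i⟩)⟩
    · rw [hiff, hiff]
      simp only [Good, Category.assoc, whiskerRight_fst, whiskerRight_snd, Functor.map_comp]
      rw [show (uy K).map s ≫ qπ K s t = (uy K).map t ≫ qπ K s t from qπ_condition K s t]
    · refine rel_of_qπ_eq K s t _ _ ?_
      have h₁ := hgood z₁
      have h₂ := hgood z₂
      simp only [Good, Category.assoc] at h₁ h₂
      rw [h₁, h₂, h]
  · have := hP _ hi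
    have := hP _ hi'
    have hmono : Mono i.left := inferInstance
    have hmono' : Mono i'.left := inferInstance
    obtain ⟨a, ha⟩ := (factor_iff_good s t i' σ₀ hst' ((good_iff s t i' σ).2 he') i).2 ((good_iff s t i σ).2 he)
    obtain ⟨b, hb⟩ := (factor_iff_good s t i σ₀ hst ((good_iff s t i σ).2 he) i').2 ((good_iff s t i' σ).2 he')
    refine ⟨⟨a, b, ?_, ?_⟩, ha⟩
    · exact Over.OverMorphism.ext ((cancel_mono i.left).1
        (congrArg CommaMorphism.left (by rw [Category.assoc, hb, ha, Category.id_comp] : (a ≫ b) ≫ i = 𝟙 _ ≫ i)))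
    · exact Over.OverMorphism.ext ((cancel_mono i'.left).1
        (congrArg CommaMorphism.left (by rw [Category.assoc, ha, hb, Category.id_comp] : (b ≫ a) ≫ i' = 𝟙 _ ≫ i')))

end Groth.L24.GrpQ
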