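import Groth.Prelude.Def_QuotSh
import Mathlib.CategoryTheory.EquivalenceRelation
import Mathlib.CategoryTheory.Sites.LocallyBijective
import Mathlib.CategoryTheory.Sites.EpiMono
import Mathlib.CategoryTheory.Sites.SubcanonicalOver
import Mathlib.CategoryTheory.Sites.Subcanonical
import Mathlib.AlgebraicGeometry.Sites.Fpqc

/-!
Quotient sheaves of equivalence relations of schemes for a subcanonical topology: two points with the
same class are related, and classes lift locally.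
-/

set_option autoImplicit false
set_option backward.isDefEq.respectTransparency.types false

universe u

open CategoryTheory CategoryTheory.Limits AlgebraicGeometry Opposite

noncomputable section

namespace Groth.L24.GrpQ

instance subcanonical_fpqc (S : Scheme.{u}) : (QuotSh.J Scheme.fpqcPrecoverage S).Subcanonical :=
  GrothendieckTopology.subcanonical_over Scheme.fpqcTopology S

instance subcanonical_fppf (S : Scheme.{u}) : (QuotSh.J Scheme.fppfPrecoverage S).Subcanonical :=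
  GrothendieckTopology.subcanonical_over Scheme.fppfTopology S

variable (K : Precoverage Scheme.{u}) {S : Scheme.{u}} [(QuotSh.J K S).Subcanonical]

/-- The represented sheaf. -/
abbrev uy : Over S ⥤ QuotSh.Sh K S := (QuotSh.J K S).uliftYoneda.{u + 1}

theorem repMap_comp_iso {R U : Over S} (f : R ⟶ U) :
    QuotSh.repMap K f ≫ (QuotSh.repIsoUliftYoneda K U).hom =
      (QuotSh.repIsoUliftYoneda K R).hom ≫ (uy K).map f := by
  unfold QuotSh.repIsoUliftYoneda
  simp only [Iso.symm_hom]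
  rw [Iso.comp_inv_eq, Category.assoc, Iso.eq_inv_comp]
  apply Sheaf.hom_ext
  exact (toSheafify_naturality (QuotSh.J K S) ((uy K).map f).hom).symm

variable {R U : Over S} (s t : R ⟶ U)

/-- The quotient map out of the represented sheaf. -/
def qπ : (uy K).obj U ⟶ QuotSh.quot K s t :=
  (QuotSh.repIsoUliftYoneda K U).inv ≫ QuotSh.quotπ K s t

theorem epi_qπ : Epi (qπ K s t) :=
  have : Epi (QuotSh.quotπ K s t) := inferInstanceAs (Epi (coequalizer.π _ _))
  epi_comp _ _

theorem repMap_eq {V W : Over S} (f : V ⟶ W) :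
    QuotSh.repMap K f =
      (QuotSh.repIsoUliftYoneda K V).hom ≫ (uy K).map f ≫ (QuotSh.repIsoUliftYoneda K W).inv := by
  rw [← Category.assoc, ← repMap_comp_iso, Category.assoc, Iso.hom_inv_id, Category.comp_id]

theorem repMap_quotπ {V : Over S} (a : V ⟶ U) :
    QuotSh.repMap K a ≫ QuotSh.quotπ K s t =
      (QuotSh.repIsoUliftYoneda K V).hom ≫ (uy K).map a ≫ qπ K s t := by
  simp only [qπ, repMap_eq, Category.assoc]

theorem qπ_condition : (uy K).map s ≫ qπ K s t = (uy K).map t ≫ qπ K s t := by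
  rw [← cancel_epi (QuotSh.repIsoUliftYoneda K R).hom, ← repMap_quotπ, ← repMap_quotπ]
  exact QuotSh.quot_condition K s t

/-- Being related by `R`. -/
def Rel (T : Over S) (a b : T ⟶ U) : Prop := ∃ r : T ⟶ R, r ≫ s = a ∧ r ≫ t = b

theorem rel_equivalence [IsEquivalenceRelation s t] (T : Over S) : Equivalence (Rel s t T) := by
  obtain ⟨e⟩ := IsEquivalenceRelation.nonempty_equivalenceRelation (p₁ := s) (p₂ := t)
  refine ⟨fun a => ⟨a ≫ e.r, by simp, by simp⟩, ?_, ?_⟩
  · rintro a b ⟨r, rfl, rfl⟩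
    exact ⟨r ≫ e.s, by rw [Category.assoc, e.symmetry₁], by rw [Category.assoc, e.symmetry₂]⟩
  · rintro a b c ⟨r, rfl, hr⟩ ⟨r', hr', rfl⟩
    have h : r ≫ t = r' ≫ s := hr.trans hr'.symm
    obtain ⟨l, hl₁, hl₂⟩ := PullbackCone.IsLimit.lift' e.isLimit r r' h
    exact ⟨l ≫ e.t, by rw [Category.assoc, e.transitivity₁, reassoc_of% hl₁],
      by rw [Category.assoc, e.transitivity₂, reassoc_of% hl₂]⟩

/-- The presheaf quotient. -/
def Q0 : (Over S)ᵒᵖ ⥤ Type (u + 1) where
  obj T := ULift.{u + 1} (Quot (Rel s t T.unop))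
  map {T T'} g := ↾ (fun x => ⟨Quot.lift (fun a => Quot.mk _ (g.unop ≫ a))
    (fun a b ⟨r, hr, hr'⟩ => Quot.sound ⟨g.unop ≫ r, by rw [Category.assoc, hr], by rw [Category.assoc, hr']⟩)
    x.down⟩)
  map_id T := by
    ext ⟨x⟩
    obtain ⟨x, rfl⟩ := Quot.exists_rep x
    exact congrArg (Quot.mk _) (Category.id_comp x)
  map_comp g h := by
    ext ⟨x⟩
    obtain ⟨x, rfl⟩ := Quot.exists_rep x
    exact congrArg (Quot.mk _) (Category.assoc _ _ x)

/-- The presheaf quotient map. -/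
def q0 : ((uy K).obj U).obj ⟶ Q0 s t where
  app T := ↾ (fun x => ⟨Quot.mk _ x.down⟩)
  naturality _ _ g := by ext x; rfl

/-- Points with the same class are related. -/
theorem rel_of_qπ_eq [IsEquivalenceRelation s t] {T : Over S} (a b : T ⟶ U)
    (h : (uy K).map a ≫ qπ K s t = (uy K).map b ≫ qπ K s t) : Rel s t T a b := by
  let J := QuotSh.J K S
  let Qs : QuotSh.Sh K S := (presheafToSheaf J (Type (u + 1))).obj (Q0 s t)
  let qbar : (uy K).obj U ⟶ Qs := ⟨q0 K s t ≫ toSheafify J (Q0 s t)⟩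
  have hq : (uy K).map s ≫ qbar = (uy K).map t ≫ qbar := Sheaf.hom_ext (NatTrans.ext (funext fun T => by
    ext r
    exact congrArg ((toSheafify J (Q0 s t)).app T)
      (congrArg ULift.up (Quot.sound ⟨r.down, rfl, rfl⟩))))
  let d : QuotSh.quot K s t ⟶ Qs := coequalizer.desc ((QuotSh.repIsoUliftYoneda K U).hom ≫ qbar) (by
    simp only [repMap_eq, Category.assoc, Iso.inv_hom_id_assoc, hq])
  have hd : qπ K s t ≫ d = qbar := by
    refine (Category.assoc _ _ _).trans ((congrArg (_ ≫ ·) (coequalizer.π_desc _ _)).trans ?_)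
    exact Iso.inv_hom_id_assoc _ _
  have hab : (toSheafify J (Q0 s t)).app (op T) ⟨Quot.mk _ a⟩ =
      (toSheafify J (Q0 s t)).app (op T) ⟨Quot.mk _ b⟩ := by
    have e : (uy K).map a ≫ qbar = (uy K).map b ≫ qbar := by rw [← hd, reassoc_of% h]
    have := congrArg (fun m : (uy K).obj T ⟶ Qs => m.hom.app (op T) ⟨𝟙 T⟩) e
    change (toSheafify J (Q0 s t)).app (op T) ⟨Quot.mk _ (𝟙 T ≫ a)⟩ =
      (toSheafify J (Q0 s t)).app (op T) ⟨Quot.mk _ (𝟙 T ≫ b)⟩ at this
    rwa [Category.id_comp, Category.id_comp] at this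
  have hcov := Presheaf.equalizerSieve_mem J (toSheafify J (Q0 s t)) _ _ hab
  set W := Presheaf.equalizerSieve (F := Q0 s t) (X := op T) ⟨Quot.mk _ a⟩ ⟨Quot.mk _ b⟩ with hW
  have hloc : ∀ ⦃V : Over S⦄ (g : V ⟶ T), W g → Rel s t V (g ≫ a) (g ≫ b) := fun V g hg =>
    (rel_equivalence s t V).eqvGen_iff.1 (Quot.eqvGen_exact (congrArg ULift.down hg))
  obtain ⟨e⟩ := IsEquivalenceRelation.nonempty_equivalenceRelation (p₁ := s) (p₂ := t)
  choose r hr₁ hr₂ using hloc
  have hsh : Presieve.IsSheafFor (yoneda.obj R) W.arrows :=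
    (GrothendieckTopology.Subcanonical.isSheaf_of_isRepresentable (J := J) (yoneda.obj R)).isSheafFor _ (by rwa [Sieve.generate_sieve])
  let fam : Presieve.FamilyOfElements (yoneda.obj R) W.arrows := fun V g hg => r g hg
  have hc : fam.Compatible := by
    intro V₁ V₂ Z g₁ g₂ f₁ f₂ h₁ h₂ w
    refine e.right_cancellation _ _ ?_ ?_
    · show (g₁ ≫ r f₁ h₁) ≫ s = (g₂ ≫ r f₂ h₂) ≫ s
      rw [Category.assoc, Category.assoc, hr₁, hr₁, reassoc_of% w]
    · show (g₁ ≫ r f₁ h₁) ≫ t = (g₂ ≫ r f₂ h₂) ≫ t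
      rw [Category.assoc, Category.assoc, hr₂, hr₂, reassoc_of% w]
  obtain ⟨r₀, hr₀, -⟩ := hsh fam hc
  have hU : Presieve.IsSheafFor (yoneda.obj U) W.arrows :=
    (GrothendieckTopology.Subcanonical.isSheaf_of_isRepresentable (J := J) (yoneda.obj U)).isSheafFor _ (by rwa [Sieve.generate_sieve])
  refine ⟨r₀, hU.isSeparatedFor.ext fun V g hg => ?_, hU.isSeparatedFor.ext fun V g hg => ?_⟩
  · show g ≫ r₀ ≫ s = g ≫ a
    rw [← Category.assoc, show g ≫ r₀ = r g hg from hr₀ g hg, hr₁]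
  · show g ≫ r₀ ≫ t = g ≫ b
    rw [← Category.assoc, show g ≫ r₀ = r g hg from hr₀ g hg, hr₂]

theorem qπ_eq_of_rel {T : Over S} {a b : T ⟶ U} (h : Rel s t T a b) :
    (uy K).map a ≫ qπ K s t = (uy K).map b ≫ qπ K s t := by
  obtain ⟨r, rfl, rfl⟩ := h
  simp only [Functor.map_comp, Category.assoc]
  exact congrArg (_ ≫ ·) (qπ_condition K s t)

/-- Classes lift locally. -/
theorem exists_cover_lift {T : Over S} (σ : (uy K).obj T ⟶ QuotSh.quot K s t) :
    ∃ W ∈ QuotSh.J K S T, ∀ ⦃V : Over S⦄ (g : V ⟶ T), W g →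
      ∃ a : V ⟶ U, (uy K).map a ≫ qπ K s t = (uy K).map g ≫ σ := by
  have := epi_qπ K s t
  have : Sheaf.IsLocallySurjective (qπ K s t) := (Sheaf.isLocallySurjective_iff_epi' (φ := qπ K s t)).2 this
  refine ⟨_, Presheaf.imageSieve_mem (QuotSh.J K S) (qπ K s t).hom
    (U := op T) ((QuotSh.J K S).uliftYonedaEquiv.{u + 1} σ), fun V g hg => ?_⟩
  obtain ⟨⟨a⟩, ha⟩ := hg
  refine ⟨a, (QuotSh.J K S).uliftYonedaEquiv.{u + 1}.injective ?_⟩
  refine Eq.trans ?_ ((GrothendieckTopology.uliftYonedaEquiv_naturality _ σ g))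
  refine Eq.trans ?_ ha
  rw [GrothendieckTopology.uliftYonedaEquiv_comp, GrothendieckTopology.uliftYonedaEquiv_uliftYoneda_map]

/-- Maps out of a represented sheaf agreeing on a covering sieve agree. -/
theorem hom_ext_of_cover {T : Over S} {F : QuotSh.Sh K S} {x y : (uy K).obj T ⟶ F} {W : Sieve T}
    (hW : W ∈ QuotSh.J K S T) (h : ∀ ⦃V : Over S⦄ (g : V ⟶ T), W g → (uy K).map g ≫ x = (uy K).map g ≫ y) :
    x = y := by
  apply (QuotSh.J K S).uliftYonedaEquiv.{u + 1}.injective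
  refine ((isSheaf_iff_isSheaf_of_type _ _).1 F.property _ hW).isSeparatedFor.ext fun V g hg => ?_
  exact (GrothendieckTopology.uliftYonedaEquiv_naturality _ _ _).trans
    ((congrArg _ (h g hg)).trans (GrothendieckTopology.uliftYonedaEquiv_naturality _ _ _).symm)

end Groth.L24.GrpQ
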